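import Cfsg.Agent.H149.RI.Large
import Cfsg.Agent.KFacts.Baby.RowB
import Cfsg.Agent.KFacts.Baby.CaseM
import Cfsg.Agent.BM.KHAll

/-!
# S4816, the Baby Monster, module side, all primes `p ≥ 7` (helper149)

`2^{1+22}` gives `|V| ≥ p^2048`; the chain of conjugates of a Sylow subgroup and the union bound give `|V| ≤ p^1520`.
-/

set_option autoImplicit false

namespace Cfsg.Agent.H149.RI.Baby

open Cfsg Cfsg.Agent.BabyM Cfsg.Agent.BabyM.Model Cfsg.Agent.BabyU.ClosModel
open Cfsg.Agent.BabyU.ClosLane Cfsg.Agent.Co2Type.Quad Cfsg.Agent.H665.RIM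

universe u

theorem card_b {G : Type u} [Group G] (h : Spor.IsoB G) : Nat.card G = 4154781481226426191177580544000000 := by
  obtain ⟨e⟩ := h
  rw [Nat.card_congr e.toEquiv]
  exact BM.KHAll.card_B

/-- faithful modules of the Baby Monster in odd characteristic -/
theorem dim_b {G : Type u} [Group G] (h : Spor.IsoB G) {V : Type*} [AddCommGroup V] [Finite V] [DistribMulAction G V]
    {p : ℕ} (hp : p.Prime) (hV : ∀ v : V, p • v = 0) (hp2 : p ≠ 2)
    (hf : ∀ h : G, (∀ v : V, h • v = v) → h = 1) : p ^ 2048 ≤ Nat.card V := by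
  obtain ⟨f⟩ := KFacts.Baby.RowB.exists_iso h
  have := A.finite_G
  let _ : DistribMulAction Inst.M.G V := DistribMulAction.compHom V f.toMonoidHom
  have hsm : ∀ (g : Inst.M.G) (v : V), g • v = f g • v := fun g v => rfl
  refine large_card (KFacts.Baby.Inst.large A) hp hV hp2 ?_ ?_ 2048 ?_
  · rw [KFacts.Baby.CaseM.card_PP]
    intro hd
    exact hp2 ((Nat.prime_dvd_prime_iff_eq hp Nat.prime_two).1 (hp.dvd_of_dvd_pow hd))
  · by_contra hcon
    push Not at hcon
    apply z_ne A
    have h1 := hf (f (zz A)) fun v => hcon v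
    exact f.injective (h1.trans (map_one f).symm)
  · rw [KFacts.Baby.CaseM.card_PP]
    norm_num

theorem num {p : ℕ} (h7 : 7 ≤ p) (k : ℕ) (hk : (p + 1) ^ k ≤ 4154781481226426191177580544000000) :
    4154781481226426191177580544000000 ^ (k + 1) < p ^ 2048 := by
  have h1 : k < 38 := by
    by_contra h
    push Not at h
    have h2 : 8 ^ 38 ≤ (p + 1) ^ k :=
      (Nat.pow_le_pow_left (by omega : 8 ≤ p + 1) 38).trans (Nat.pow_le_pow_right (by omega) h)
    have h3 : (4154781481226426191177580544000000 : ℕ) < 8 ^ 38 := by norm_num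
    omega
  calc 4154781481226426191177580544000000 ^ (k + 1) ≤ (7 ^ 40) ^ (k + 1) :=
        Nat.pow_le_pow_left (by norm_num) _
    _ ≤ (7 ^ 40) ^ 38 := Nat.pow_le_pow_right (by positivity) (by omega)
    _ = 7 ^ 1520 := by rw [← pow_mul]
    _ < 7 ^ 2048 := Nat.pow_lt_pow_right (by norm_num) (by norm_num)
    _ ≤ p ^ 2048 := Nat.pow_le_pow_left h7 _

/-- **The Baby Monster has no module with all orbits of `p'`-size, `p ≥ 7`.** -/
theorem noPEx_b {S : Type u} [Group S] (h : Spor.IsoB S) (hS : IsSimpleGroup S) {p : ℕ} (hp : p.Prime) (h7 : 7 ≤ p)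
    (hd : p ∣ Nat.card S) : NoPEx p S := by
  have : Fact p.Prime := ⟨hp⟩
  have hc := card_b h
  have hfin : Finite S := Nat.finite_of_card_ne_zero (by rw [hc]; norm_num)
  obtain ⟨P⟩ := (inferInstance : Nonempty (Sylow p S))
  refine noPEx_of_dim ?_ hd P (Nat.card S) (Nat.le_of_dvd Nat.card_pos (P : Subgroup S).index_dvd_card) 2048
    (fun V _ _ _ hV hf => dim_b h hp hV (by omega) hf) ?_
  · by_contra hcon
    push Not at hcon
    have h1 : IsMulCommutative S := ⟨⟨hcon⟩⟩
    let _ : CommGroup S := { (inferInstance : Group S) with mul_comm := hcon }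
    have h2 : (Nat.card S).Prime := IsSimpleGroup.prime_card
    rw [hc] at h2
    exact absurd h2 (by norm_num)
  · rw [hc]
    exact num h7

end Cfsg.Agent.H149.RI.Baby
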