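import Cfsg.Agent.H149.RI.Baby
import Cfsg.Agent.H149.RI.Red
import Cfsg.Agent.H620.RIM.Mult

/-!
# S4816, the Baby Monster: `EK p B` for all primes `p ≥ 7` (helper149)
-/

set_option autoImplicit false

namespace Cfsg.Agent.H149.RI.Baby

open Cfsg Cfsg.Agent.H665.RIM

universe u

variable {K : Type u} [Group K] [Finite K]

/-- **`EK p B`, `p ≥ 7`.** -/
theorem ek_b (h : Spor.IsoB K) {p : ℕ} (hp : p.Prime) (h7 : 7 ≤ p)
    (hd : p ∣ 4154781481226426191177580544000000) : EK.{u} p K := by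
  obtain ⟨e⟩ := h
  have hs : IsSimpleGroup K := MulEquiv.isSimpleGroup_congr e |>.2 KFacts.Baby.RowB.simple_B
  refine ek_of_noPEx (fun E _ _ π h1 h2 h3 => ?_) (noPEx_b ⟨e⟩ hs hp h7 (by rw [card_b ⟨e⟩]; exact hd))
  rcases (Nat.dvd_prime Nat.prime_two).1 (H620.RIM.dvd_b ⟨e⟩ E π h1 h2 h3) with h4 | h4
  · exact Or.inl h4
  · right
    rw [h4]
    exact Nat.prime_two

theorem ek_seven (h : Spor.IsoB K) : EK.{u} 7 K := ek_b h (by norm_num) (by norm_num) (by norm_num)
theorem ek_eleven (h : Spor.IsoB K) : EK.{u} 11 K := ek_b h (by norm_num) (by norm_num) (by norm_num)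
theorem ek_thirteen (h : Spor.IsoB K) : EK.{u} 13 K := ek_b h (by norm_num) (by norm_num) (by norm_num)
theorem ek_seventeen (h : Spor.IsoB K) : EK.{u} 17 K := ek_b h (by norm_num) (by norm_num) (by norm_num)
theorem ek_nineteen (h : Spor.IsoB K) : EK.{u} 19 K := ek_b h (by norm_num) (by norm_num) (by norm_num)
theorem ek_twentythree (h : Spor.IsoB K) : EK.{u} 23 K := ek_b h (by norm_num) (by norm_num) (by norm_num)
theorem ek_thirtyone (h : Spor.IsoB K) : EK.{u} 31 K := ek_b h (by norm_num) (by norm_num) (by norm_num)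
theorem ek_fortyseven (h : Spor.IsoB K) : EK.{u} 47 K := ek_b h (by norm_num) (by norm_num) (by norm_num)

end Cfsg.Agent.H149.RI.Baby
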